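import Groth.Agent.Lib.AnPts.Etale
import Groth.Agent.Lib.AnPts.Pullback
import Groth.Prelude.Def_AnEps
import Mathlib.CategoryTheory.Functor.Flat
import Mathlib.CategoryTheory.Sites.CoverPreserving
import Mathlib.AlgebraicGeometry.Sites.Etale
import Mathlib.CategoryTheory.Sites.Pullback
import Mathlib.CategoryTheory.Abelian.GrothendieckAxioms.Basic
import Mathlib.Algebra.Category.Grp.AB

/-!
# The comparison functor from the étale site to the classical site is continuous and flat
-/

open AlgebraicGeometry CategoryTheory CategoryTheory.Limits TopologicalSpace Opposite Topology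

noncomputable section

namespace Groth.Agent.Lib.AnSite

open An Groth.Agent.Lib.AnPts

variable (X : Scheme.{0}) [X.Over SC] [LocallyOfFiniteType (X ↘ SC)] [Fact EtaleLH]

omit [Fact EtaleLH] in
lemma lft_etale (U : X.Etale) : LocallyOfFiniteType (U.left ↘ SC) :=
  show LocallyOfFiniteType ((U.left ↘ X) ≫ X ↘ SC) from inferInstance

omit [Fact EtaleLH] in
/-- Points of a fibre square of schemes over ℂ. -/
lemma isInducing_square {P U V W : Scheme.{0}} [P.Over SC] [U.Over SC] [V.Over SC] [W.Over SC]
    {p : P ⟶ U} {q : P ⟶ V} {f : U ⟶ W} {g : V ⟶ W} [p.IsOver SC] [q.IsOver SC] [f.IsOver SC]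
    [g.IsOver SC] (h : IsPullback p q f g) :
    IsInducing (fun z : Pts P => (Pts.map p z, Pts.map q z)) := by
  have : h.isoPullback.hom.IsOver SC := ⟨by
    show h.isoPullback.hom ≫ Limits.pullback.fst f g ≫ U ↘ SC = P ↘ SC
    rw [← Category.assoc, h.isoPullback_hom_fst, comp_over p]⟩
  convert (isInducing_pbMap f g).comp (isOpenEmbedding_map h.isoPullback.hom).isInducing using 1
  funext z
  exact Prod.ext (Subtype.ext (by simp)) (Subtype.ext (by simp))

lemma eps_map_toFun {U V : X.Etale} (g : U ⟶ V) (a : Pts U.left) :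
    ((eps X).map g).toFun a = Pts.map (X := U.left) (Y := V.left) g.left a := rfl

set_option backward.isDefEq.respectTransparency.types false in
instance eps_preservesPullback {U V W : X.Etale} (f : U ⟶ W) (g : V ⟶ W) :
    PreservesLimit (cospan f g) (eps X) := by
  have hsch : IsPullback (pullback.fst f g).left (pullback.snd f g).left f.left g.left :=
    ((IsPullback.of_hasPullback f g).map (Scheme.Etale.forget X)).map (Over.forget X)
  refine preservesLimit_of_preserves_limit_cone (pullbackIsPullback f g) ?_
  refine (isLimitMapConePullbackConeEquiv (eps X) pullback.condition).symm ?_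
  let p := (pullback.fst f g).left
  let q := (pullback.snd f g).left
  have hind : IsInducing (fun z : Pts (pullback f g).left => (Pts.map p z, Pts.map q z)) :=
    isInducing_square hsch
  have hlift : ∀ (a : Pts U.left) (b : Pts V.left), Pts.map f.left a = Pts.map g.left b →
      ∃ z : Pts (pullback f g).left, Pts.map p z = a ∧ Pts.map q z = b := by
    intro a b hab
    refine ⟨⟨hsch.lift a.1 b.1 (congrArg Subtype.val hab), ?_⟩, Subtype.ext (hsch.lift_fst _ _ _),
      Subtype.ext (hsch.lift_snd _ _ _)⟩
    rw [← comp_over p (S := SC), hsch.lift_fst_assoc]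
    exact a.2
  have hcond : ∀ (s : PullbackCone ((eps X).map f) ((eps X).map g)) (e : s.pt.E),
      Pts.map f.left (s.fst.toFun e) = Pts.map g.left (s.snd.toFun e) := fun s e => by
    have := congrFun (congrArg An.Cl.Hom.toFun s.condition) e
    exact this
  choose z hz₁ hz₂ using hlift
  let lift : ∀ s : PullbackCone ((eps X).map f) ((eps X).map g), s.pt ⟶ (eps X).obj (pullback f g) :=
    fun s => ⟨fun e => z _ _ (hcond s e), by
      refine hind.continuous_iff.2 ?_
      refine (s.fst.continuous.prodMk s.snd.continuous).congr fun e => ?_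
      exact Prod.ext (hz₁ _ _ (hcond s e)).symm (hz₂ _ _ (hcond s e)).symm, fun e => by
      have h1 := congrArg (fun a => ((eps X).obj U).p a) (hz₁ _ _ (hcond s e))
      refine Eq.trans ?_ (h1.trans (s.fst.over e))
      exact (((eps X).map (pullback.fst f g)).over (z _ _ (hcond s e))).symm⟩
  refine PullbackCone.IsLimit.mk _ lift (fun s => Cl.hom_ext (funext fun e => hz₁ _ _ (hcond s e)))
    (fun s => Cl.hom_ext (funext fun e => hz₂ _ _ (hcond s e))) (fun s m h₁ h₂ => ?_)
  refine Cl.hom_ext (funext fun e => Subtype.ext (hsch.hom_ext ?_ ?_))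
  · exact congrArg Subtype.val ((congrFun (congrArg An.Cl.Hom.toFun h₁) e).trans
      (hz₁ _ _ (hcond s e)).symm)
  · exact congrArg Subtype.val ((congrFun (congrArg An.Cl.Hom.toFun h₂) e).trans
      (hz₂ _ _ (hcond s e)).symm)

set_option backward.isDefEq.respectTransparency.types false in
lemma eps_preservesTerminal : PreservesLimit (Functor.empty.{0} X.Etale) (eps X) := by
  let T : X.Etale := Scheme.Etale.mk (𝟙 X)
  have hT : IsTerminal T := MorphismProperty.Over.mkIdTerminal _ X
  refine preservesLimit_of_preserves_limit_cone hT ?_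
  refine (isLimitMapConeEmptyConeEquiv (eps X) T).symm ?_
  let back : C(Pts X, Pts T.left) :=
    Pts.cast (inferInstance : X.Over SC) (etaleOverLeft X T) (Category.id_comp _).symm
  refine IsTerminal.ofUniqueHom (fun A => ⟨fun a => back (A.p a), back.continuous.comp A.lh.continuous,
    fun a => Subtype.ext (Category.comp_id _)⟩) fun A m => Cl.hom_ext (funext fun a => ?_)
  refine Subtype.ext ?_
  have := congrArg Subtype.val (m.over a)
  exact (Category.comp_id _).symm.trans this

instance eps_preservesFiniteLimits : PreservesFiniteLimits (eps X) := by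
  have : PreservesLimit (Functor.empty.{0} X.Etale) (eps X) := eps_preservesTerminal X
  have : PreservesLimitsOfShape (Discrete PEmpty.{1}) (eps X) :=
    preservesLimitsOfShape_pempty_of_preservesTerminal (eps X)
  have : PreservesLimitsOfShape WalkingCospan (eps X) :=
    ⟨fun {K} => preservesLimit_of_iso_diagram (eps X) (diagramIsoCospan K).symm⟩
  exact preservesFiniteLimits_of_preservesTerminal_and_pullbacks (eps X)

instance eps_flat : RepresentablyFlat (eps X) := flat_of_preservesFiniteLimits (eps X)

set_option backward.isDefEq.respectTransparency.types false in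
lemma eps_coverPreserving : CoverPreserving X.smallEtaleTopology (Cl.topology (Pts X)) (eps X) := by
  refine ⟨fun {U S} hS a => ?_⟩
  obtain ⟨𝒰, h𝒰, p, hle⟩ := (Scheme.mem_smallGrothendieckTopology _ _).1 hS
  obtain ⟨i, w, hw⟩ := 𝒰.exists_eq (Pts.pt (X := U.left) a)
  obtain ⟨_, g, hg, hgl⟩ : ∃ (V : X.Etale) (g : V ⟶ U) (_ : S g),
      Pts.pt (X := U.left) a ∈ Set.range g.left :=
    ⟨_, _, hle _ _ ⟨i⟩, ⟨w, hw⟩⟩
  rename_i V
  have := lft_etale X U
  have := lft_etale X V
  obtain ⟨b, hb⟩ : a ∈ Set.range (Pts.map (X := V.left) (Y := U.left) g.left) := by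
    rw [range_map_eq]; exact hgl
  have hlh : IsLocalHomeomorph (Pts.map (X := V.left) (Y := U.left) g.left) :=
    isLocalHomeomorph_map g.left
  obtain ⟨N, hN, hNe⟩ := isLocalHomeomorph_iff_isOpenEmbedding_restrict.1 hlh b
  obtain ⟨N₀, hsub, hN₀, hbN⟩ := mem_nhds_iff.1 hN
  refine ⟨_, Cl.restrictOpenι ((eps X).obj V) N₀ hN₀ ≫ (eps X).map g, ?_, ?_, ⟨b, hbN⟩, hb⟩
  · exact ⟨V, g, Cl.restrictOpenι ((eps X).obj V) N₀ hN₀, hg, rfl⟩
  · exact hNe.comp (IsOpenEmbedding.inclusion hsub (hN₀.preimage continuous_subtype_val))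

theorem epsCont : EpsCont X :=
  Functor.isContinuous_of_coverPreserving (compatiblePreservingOfFlat _ (eps X))
    (eps_coverPreserving X)

universe v₁ v₂ v₃ u₁ u₂ u₃

set_option backward.defeqAttrib.useBackward true in
set_option backward.isDefEq.respectTransparency false in
/-- `lanEvaluationIsoColim` without smallness hypotheses. -/
def lanEvalIsoColim {C : Type u₁} [Category.{v₁} C] {D : Type u₂} [Category.{v₂} D]
    {E : Type u₃} [Category.{v₃} E] (F : C ⥤ D) (X : D)
    [∀ X : D, HasColimitsOfShape (CostructuredArrow F X) E] :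
    F.lan ⋙ (evaluation D E).obj X ≅
      (Functor.whiskeringLeft _ _ E).obj (CostructuredArrow.proj F X) ⋙ colim :=
  NatIso.ofComponents (fun G =>
    IsColimit.coconePointUniqueUpToIso
    (Functor.isPointwiseLeftKanExtensionLeftKanExtensionUnit F G X)
    (colimit.isColimit _)) (fun {G₁ G₂} φ => by
      apply (Functor.isPointwiseLeftKanExtensionLeftKanExtensionUnit F G₁ X).hom_ext
      intro T
      have h₁ := fun (G : C ⥤ E) => IsColimit.comp_coconePointUniqueUpToIso_hom
        (Functor.isPointwiseLeftKanExtensionLeftKanExtensionUnit F G X) (colimit.isColimit _) T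
      have h₂ := congr_app (F.lanUnit.naturality φ) T.left
      dsimp at h₁ h₂ ⊢
      simp only [Category.assoc] at h₁ ⊢
      simp only [Functor.lan, Functor.lanUnit] at h₂ ⊢
      rw [reassoc_of% h₁, NatTrans.naturality_assoc, ← reassoc_of% h₂, h₁,
        ι_colimMap, Functor.whiskerLeft_app]
      rfl)

omit [LocallyOfFiniteType (X ↘ SC)] [Fact EtaleLH] in
/-- Left Kan extension along a flat functor of moderately small categories is left exact. -/
lemma lan_preservesFiniteLimits {C : Type 1} [Category.{0} C] {D : Type 1} [Category.{0} D]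
    (F : C ⥤ D) [RepresentablyFlat F] :
    PreservesFiniteLimits (F.op.lan : (Cᵒᵖ ⥤ AddCommGrpCat.{1}) ⥤ Dᵒᵖ ⥤ AddCommGrpCat.{1}) := by
  have : AB5OfSize.{0, 1} AddCommGrpCat.{1} := AB5OfSize_shrink.{0, 1, 1, 1} _
  refine ⟨fun J _ _ => preservesLimitsOfShape_of_evaluation _ J fun K => ?_⟩
  have : IsFiltered (CostructuredArrow F.op K) :=
    IsFiltered.of_equivalence (structuredArrowOpEquivalence F (unop K))
  exact preservesLimitsOfShape_of_natIso (lanEvalIsoColim F.op K).symm

theorem epsPull_preservesFiniteLimits [EpsCont X] : PreservesFiniteLimits (epsPull X) := by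
  have : PreservesFiniteLimits ((eps X).op.lan :
      ((X.Etale)ᵒᵖ ⥤ AddCommGrpCat.{1}) ⥤ (Cl (Pts X))ᵒᵖ ⥤ AddCommGrpCat.{1}) :=
    lan_preservesFiniteLimits (eps X)
  exact Functor.sheafPullbackConstruction.preservesFiniteLimits (eps X) AddCommGrpCat.{1}
    X.smallEtaleTopology (Cl.topology (Pts X))

end Groth.Agent.Lib.AnSite
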