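import Groth.Agent.Lib.AnSite.Eps
import Groth.Agent.Lib.AnConn.Connected
import Groth.Agent.Lib.AnPts.Separated
import Mathlib.AlgebraicGeometry.Morphisms.FlatMono
import Mathlib.AlgebraicGeometry.Morphisms.UniversallyInjective
import Mathlib.AlgebraicGeometry.Morphisms.Etale

/-!
# Morphisms of étale schemes versus maps of ℂ-points
-/

open AlgebraicGeometry CategoryTheory CategoryTheory.Limits TopologicalSpace Opposite Topology

noncomputable section

namespace Groth.Agent.Lib.AnSite

open An Groth.Agent.Lib.AnPts Groth.Agent.Lib.AnConn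

variable {X U V : Scheme.{0}} [X.Over SC] [LocallyOfFiniteType (X ↘ SC)]
  [U.Over SC] [LocallyOfFiniteType (U ↘ SC)] [V.Over SC] [LocallyOfFiniteType (V ↘ SC)]

lemma opensRange_eq_top_of_pts {E : Scheme.{0}} (e : E ⟶ U) [IsOpenImmersion e]
    (h : ∀ a : Pts U, a.pt ∈ Set.range e) : IsIso e := by
  have hr : e.opensRange = ⊤ := by
    ext z
    refine iff_of_true ?_ trivial
    exact subset_of_pt_preimage_subset (X := U) (T := Set.univ) (S := Set.range e)
      IsLocallyConstructible.univ
      (isLocallyConstructible_of_isClosed e.isOpenEmbedding.isOpen_range.isClosed_compl)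
      (fun a _ => h a) (Set.mem_univ z)
  exact isIso_of_isOpenImmersion_of_opensRange_eq_top e hr

/-- Two morphisms to an unramified scheme agreeing on ℂ-points are equal. -/
theorem hom_eq_of_map_eq (g : V ⟶ X) [g.IsOver SC] [FormallyUnramified g] (a b : U ⟶ V)
    [a.IsOver SC] [b.IsOver SC] (hab : a ≫ g = b ≫ g) (h : Pts.map a = Pts.map b) : a = b := by
  have := lft_of_over g
  let l : U ⟶ pullback g g := pullback.lift a b hab
  have key : ∀ z : Pts U, z.pt ∈ Set.range (pullback.fst l (pullback.diagonal g)) := by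
    intro z
    have e : z.1 ≫ a = z.1 ≫ b := congrArg Subtype.val (congrFun h z)
    have e2 : z.1 ≫ l = (z.1 ≫ a) ≫ pullback.diagonal g :=
      pullback.hom_ext
        (by rw [Category.assoc, pullback.lift_fst a b hab]; simp)
        (by rw [Category.assoc, pullback.lift_snd a b hab]; simp [e])
    refine ⟨(pullback.lift z.1 (z.1 ≫ a) e2) An.cpt, ?_⟩
    rw [← Scheme.Hom.comp_apply, pullback.lift_fst]
    rfl
  have := opensRange_eq_top_of_pts (pullback.fst l (pullback.diagonal g)) key
  have h1 := pullback.condition (f := l) (g := pullback.diagonal g)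
  have ha := congrArg (fun k => k ≫ pullback.fst g g) h1
  have hb := congrArg (fun k => k ≫ pullback.snd g g) h1
  simp only [l, Category.assoc, pullback.lift_fst, pullback.lift_snd, pullback.diagonal_fst,
    pullback.diagonal_snd, Category.comp_id] at ha hb
  exact (cancel_epi (pullback.fst l (pullback.diagonal g))).1 (ha.trans hb.symm)

/-- An étale morphism which is bijective on ℂ-points is an isomorphism. -/
theorem isIso_of_bijective_map (f : V ⟶ X) [f.IsOver SC] [Etale f]
    (hb : Function.Bijective (Pts.map f)) : IsIso f := by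
  have : LocallyOfFiniteType (pullback f f ↘ SC) :=
    show LocallyOfFiniteType (pullback.fst f f ≫ V ↘ SC) from inferInstance
  have hdiag : IsIso (pullback.diagonal f) := by
    refine opensRange_eq_top_of_pts (U := pullback f f) _ fun z => ?_
    have h0 : Pts.map (pullback.fst f f) z = Pts.map (pullback.snd f f) z :=
      hb.1 (Pts.map_pullback_condition f f z)
    have e : (z.1 ≫ pullback.fst f f) ≫ pullback.diagonal f = z.1 := by
      have e0 : z.1 ≫ pullback.fst f f = z.1 ≫ pullback.snd f f := congrArg Subtype.val h0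
      exact pullback.hom_ext (by simp) (by simp [e0])
    refine ⟨(z.1 ≫ pullback.fst f f) An.cpt, ?_⟩
    rw [← Scheme.Hom.comp_apply, e]
    rfl
  have : Mono f := (pullback.isIso_diagonal_iff f).1 hdiag
  have := IsOpenImmersion.of_flat_of_mono f
  refine opensRange_eq_top_of_pts (U := X) f fun x => ?_
  obtain ⟨v, rfl⟩ := hb.2 x
  exact ⟨v.pt, (Pts.pt_map f v).symm⟩

/-- Continuous maps over `X(ℂ)` to a separated étale scheme are algebraic. -/
theorem exists_hom_of_continuous (f : U ⟶ X) (g : V ⟶ X) [f.IsOver SC] [g.IsOver SC]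
    [Etale g] [IsSeparated g] (a : Pts U → Pts V) (ha : Continuous a)
    (hag : ∀ u, Pts.map g (a u) = Pts.map f u) :
    ∃ k : U ⟶ V, k ≫ g = f ∧ ∀ u : Pts U, u.1 ≫ k = (a u).1 := by
  let P := pullback f g
  have hP : LocallyOfFiniteType (P ↘ SC) :=
    show LocallyOfFiniteType (pullback.fst f g ≫ U ↘ SC) from inferInstance
  let h : Pts P ≃ₜ {q : Pts U × Pts V // Pts.map f q.1 = Pts.map g q.2} :=
    (isHomeomorph_pbPair f g).homeomorph _
  let s : Pts U → Pts P := fun u => h.symm ⟨(u, a u), (hag u).symm⟩
  have hs : Continuous s :=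
    h.symm.continuous.comp ((continuous_id.prodMk ha).subtype_mk _)
  have hs' : ∀ u, Pts.map (pullback.fst f g) (s u) = u ∧ Pts.map (pullback.snd f g) (s u) = a u := by
    intro u
    have h1 := h.apply_symm_apply ⟨(u, a u), (hag u).symm⟩
    exact ⟨congrArg (fun q => q.1.1) h1, congrArg (fun q => q.1.2) h1⟩
  have hcomp : Pts.map (pullback.fst f g) ∘ s = id := funext fun u => (hs' u).1
  have hlh : IsLocalHomeomorph s :=
    IsLocalHomeomorph.of_comp (g := Pts.map (pullback.fst f g))
      (by rw [hcomp]; exact (Homeomorph.refl _).isLocalHomeomorph) (isLocalHomeomorph_map _) hs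
  have hrange : Set.range s =
      {z | (⟨(a (Pts.map (pullback.fst f g) z), Pts.map (pullback.snd f g) z),
        (hag _).trans (Pts.map_pullback_condition f g z)⟩ : Function.Pullback (Pts.map g) (Pts.map g)) ∈
          (Pts.map g).pullbackDiagonal} := by
    ext z
    constructor
    · rintro ⟨u, rfl⟩
      show a _ = Pts.map (pullback.snd f g) (s u)
      rw [(hs' u).1, (hs' u).2]
    · intro hz
      refine ⟨Pts.map (pullback.fst f g) z, ?_⟩
      refine (pbPair_bijective f g).1 (Subtype.ext (Prod.ext ?_ ?_))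
      · exact (hs' _).1
      · exact (hs' _).2.trans hz
  have hclopen : IsClopen (Set.range s) := by
    refine ⟨?_, hlh.isOpenMap.isOpen_range⟩
    rw [hrange]
    exact (isSeparatedMap_iff_isClosed_diagonal.1 ((AnPts.isSeparated_iff g).1 inferInstance)).preimage
      (((ha.comp (Pts.continuous_map _)).prodMk (Pts.continuous_map _)).subtype_mk _)
  obtain ⟨W, hW, hWs⟩ := exists_isClopen_preimage hclopen
  let W' : P.Opens := ⟨W, hW.2⟩
  have : LocallyOfFiniteType (W'.toScheme ↘ SC) :=
    show LocallyOfFiniteType (W'.ι ≫ P ↘ SC) from inferInstance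
  let p : W'.toScheme ⟶ U := W'.ι ≫ pullback.fst f g
  have hp : p.IsOver SC := ⟨by
    show (W'.ι ≫ pullback.fst f g) ≫ U ↘ SC = W'.ι ≫ pullback.fst f g ≫ U ↘ SC
    rw [Category.assoc]⟩
  have hlift : ∀ u, ∃ w : Pts W'.toScheme, Pts.map W'.ι w = s u := fun u =>
    exists_map_ι_eq (U := W') (show (s u).pt ∈ W from hWs.subset ⟨u, rfl⟩)
  have hbij : Function.Bijective (Pts.map p) := by
    constructor
    · intro w w' e
      refine (isOpenEmbedding_map_ι W').injective ?_
      obtain ⟨u, hu⟩ : Pts.map W'.ι w ∈ Set.range s := hWs.symm.subset (by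
        show (Pts.map W'.ι w).pt ∈ W
        rw [Pts.pt_map]; exact w.pt.2)
      obtain ⟨u', hu'⟩ : Pts.map W'.ι w' ∈ Set.range s := hWs.symm.subset (by
        show (Pts.map W'.ι w').pt ∈ W
        rw [Pts.pt_map]; exact w'.pt.2)
      rw [Pts.map_comp, Pts.map_comp, ← hu, ← hu', (hs' u).1, (hs' u').1] at e
      rw [← hu, ← hu', e]
    · intro u
      obtain ⟨w, hw⟩ := hlift u
      exact ⟨w, by rw [Pts.map_comp, hw, (hs' u).1]⟩
  have := isIso_of_bijective_map p hbij
  refine ⟨inv p ≫ W'.ι ≫ pullback.snd f g, ?_, fun u => ?_⟩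
  · rw [Category.assoc, Category.assoc, ← pullback.condition, IsIso.inv_comp_eq]
    simp [p]
  · obtain ⟨w, hw⟩ := hlift u
    have hu : u.1 = w.1 ≫ p := congrArg Subtype.val
      (show u = Pts.map p w by rw [Pts.map_comp, hw, (hs' u).1])
    rw [hu, Category.assoc, IsIso.hom_inv_id_assoc]
    have := congrArg Subtype.val (hs' u).2
    rw [← hw] at this
    simpa using this

variable (X) [Fact EtaleLH]

set_option backward.isDefEq.respectTransparency.types false in
theorem eps_fullyFaithful :
    (∀ (A B : X.Etale) [IsSeparated (B.left ↘ X)],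
        Function.Surjective ((eps X).map : (A ⟶ B) → ((eps X).obj A ⟶ (eps X).obj B))) ∧
      (eps X).Faithful := by
  refine ⟨fun A B _ φ => ?_, ⟨fun {A B} k k' h => ?_⟩⟩
  · have := lft_etale X A
    have := lft_etale X B
    obtain ⟨k, hk, hk'⟩ := exists_hom_of_continuous (A.left ↘ X) (B.left ↘ X) φ.toFun φ.continuous φ.over
    refine ⟨MorphismProperty.Over.homMk k hk trivial, Cl.hom_ext (funext fun u => Subtype.ext ?_)⟩
    exact hk' u
  · have := lft_etale X A
    have := lft_etale X B
    refine MorphismProperty.Over.Hom.ext ?_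
    exact hom_eq_of_map_eq (B.left ↘ X) k.left k'.left
      ((Over.w k.hom).trans (Over.w k'.hom).symm) (congrArg An.Cl.Hom.toFun h)

end Groth.Agent.Lib.AnSite
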