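import Groth.Prelude.Def_AnCl
import Mathlib.CategoryTheory.Sites.DenseSubsite.SheafEquiv

/-!
# Opens of a space form a dense subsite of the classical site of local homeomorphisms
-/

universe u

open CategoryTheory TopologicalSpace Topology Opposite

noncomputable section

namespace Groth.Agent.Lib.AnSite

open An

variable (T : Type u) [TopologicalSpace T]

instance opensToCl_full : (opensToCl T).Full where
  map_surjective {U V} f := by
    refine ⟨homOfLE fun t ht => ?_, ?_⟩
    · have h : (f.toFun ⟨t, ht⟩).1 = t := f.over ⟨t, ht⟩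
      exact h ▸ (f.toFun ⟨t, ht⟩).2
    · exact Cl.hom_ext (funext fun a => Subtype.ext (f.over a).symm)

instance opensToCl_faithful : (opensToCl T).Faithful where

instance opensToCl_isCoverDense : (opensToCl T).IsCoverDense (Cl.topology T) where
  is_cover A a := by
    obtain ⟨W, hW, hWe⟩ := isLocalHomeomorph_iff_isOpenEmbedding_restrict.1 A.lh a
    obtain ⟨W₀, hW₀W, hW₀o, haW₀⟩ := mem_nhds_iff.1 hW
    have hWe₀ : IsOpenEmbedding (fun w : W₀ => A.p w.1) :=
      hWe.comp (IsOpenEmbedding.inclusion hW₀W (hW₀o.preimage continuous_subtype_val))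
    let U : Opens T := ⟨Set.range (fun w : W₀ => A.p w.1), hWe₀.isOpen_range⟩
    let e : W₀ ≃ₜ U := hWe₀.isEmbedding.toHomeomorph
    let g : (opensToCl T).obj U ⟶ A :=
      ⟨fun x => (e.symm x).1, continuous_subtype_val.comp e.symm.continuous,
        fun x => congrArg Subtype.val (e.apply_symm_apply x)⟩
    refine ⟨(opensToCl T).obj U, g, ⟨⟨U, 𝟙 _, g, Category.id_comp _⟩⟩, ?_, ?_⟩
    · exact hW₀o.isOpenEmbedding_subtypeVal.comp e.symm.isOpenEmbedding
    · exact ⟨e ⟨a, haW₀⟩, congrArg Subtype.val (e.symm_apply_apply ⟨a, haW₀⟩)⟩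

lemma coverPreserving_opensToCl {U : Opens T} (S : Sieve U) :
    S.functorPushforward (opensToCl T) ∈ Cl.topology T ((opensToCl T).obj U) ↔
      S ∈ Opens.grothendieckTopology T U := by
  refine ⟨fun h x hx => ?_, fun h a => ?_⟩
  · obtain ⟨B, g, ⟨U', f, k, hf, rfl⟩, -, b, hb⟩ := h ⟨x, hx⟩
    refine ⟨U', f, hf, ?_⟩
    have h2 : (k.toFun b).1 = x := congrArg Subtype.val hb
    exact h2 ▸ (k.toFun b).2
  · obtain ⟨U', f, hf, hxU'⟩ := h a.1 a.2
    exact ⟨_, (opensToCl T).map f, ⟨U', f, 𝟙 _, hf, (Category.id_comp _).symm⟩,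
      IsOpenEmbedding.inclusion f.le (U'.2.preimage continuous_subtype_val), ⟨a.1, hxU'⟩, rfl⟩

instance opensToCl_isDenseSubsite :
    (opensToCl T).IsDenseSubsite (Opens.grothendieckTopology T) (Cl.topology T) where
  functorPushforward_mem_iff := coverPreserving_opensToCl T _

theorem opCont : OpCont T := inferInstance

theorem resOpens_isEquivalence [OpCont T] : (resOpens T).IsEquivalence :=
  inferInstanceAs ((opensToCl T).sheafPushforwardContinuous AddCommGrpCat.{u + 1}
    (Opens.grothendieckTopology T) (Cl.topology T)).IsEquivalence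

end Groth.Agent.Lib.AnSite
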